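import Cfsg.Agent.H47.J4.Facts0
import Cfsg.Agent.H47.J4.Facts1
import Cfsg.Agent.H47.J4.Facts2
import Cfsg.Agent.H47.J4.Facts3
import Cfsg.Agent.H47.J4.Facts4
import Cfsg.Agent.H47.J4.Facts5
import Cfsg.Agent.H47.J4.Facts6
import Cfsg.Agent.H47.J4.Facts7
import Cfsg.Agent.H47.J4.Facts8
import Cfsg.Agent.H47.J4.Facts9
import Cfsg.Agent.H47.J4.Facts10
import Cfsg.Agent.H47.J4.Facts11
import Cfsg.Agent.H47.J4.Rows0
import Cfsg.Agent.H47.J4.Rows1

/-! Validity of the certificate. -/

set_option autoImplicit false

namespace Cfsg.Agent.H47.J4

open Cfsg.Agent.H16

/-- The certificate is valid. -/
theorem valid : cert.Valid where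
  facts_ok :=
    (allFrom_extend (allFrom_extend (allFrom_extend (allFrom_extend (allFrom_extend (allFrom_extend (allFrom_extend (allFrom_extend (allFrom_extend (allFrom_extend (allFrom_extend (allFrom_extend (allFrom_extend (allFrom_extend (allFrom_extend (allFrom_extend (allFrom_extend (allFrom_extend (allFrom_extend (allFrom_extend (allFrom_extend (allFrom_extend (allFrom_extend (allFrom_extend (allFrom_extend (allFrom_extend (allFrom_extend (allFrom_extend (allFrom_extend (allFrom_extend (allFrom_extend (allFrom_extend (allFrom_extend (allFrom_extend (allFrom_extend (allFrom_extend (allFrom_extend (allFrom_extend (allFrom_extend (allFrom_extend (allFrom_extend (allFrom_extend (allFrom_extend (allFrom_extend (allFrom_extend (allFrom_extend (allFrom_extend (allFrom_extend (allFrom_extend (allFrom_extend (allFrom_extend (allFrom_extend (allFrom_extend (allFrom_extend (allFrom_extend (allFrom_extend (allFrom_extend (allFrom_extend (allFrom_extend (allFrom_extend (allFrom_extend (allFrom_extend (allFrom_extend (allFrom_extend (allFrom_extend (allFrom_extend (allFrom_extend (allFrom_extend (allFrom_extend (allFrom_extend (allFrom_extend (allFrom_extend (allFrom_extend (allFrom_extend (allFrom_extend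 (allFrom_extend (allFrom_extend (allFrom_extend (allFrom_extend (allFrom_extend (allFrom_extend (allFrom_extend (allFrom_extend (allFrom_extend (allFrom_extend (allFrom_extend (allFrom_extend (allFrom_extend (allFrom_extend (allFrom_extend (allFrom_extend (allFrom_extend (allFrom_extend (allFrom_extend (allFrom_extend (allFrom_extend (allFrom_extend (allFrom_extend (allFrom_extend (allFrom_extend (allFrom_extend (allFrom_extend (allFrom_extend (allFrom_extend (allFrom_extend (allFrom_extend (allFrom_extend (allFrom_extend (allFrom_extend (allFrom_extend (allFrom_extend (allFrom_extend (allFrom_extend (allFrom_extend (allFrom_extend (allFrom_extend (allFrom_extend (allFrom_extend (allFrom_extend (allFrom_extend (allFrom_extend (allFrom_extend (allFrom_extend (allFrom_extend (allFrom_extend (allFrom_extend (allFrom_extend (allFrom_extend (allFrom_extend (allFrom_extend (allFrom_extend (allFrom_extend (allFrom_extend (allFrom_extend (allFrom_extend (allFrom_extend (allFrom_extend (allFrom_extend (allFrom_extend (allFrom_extend (allFrom_extend (allFrom_extend allFrom_nil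
    facts_0)
    facts_2000)
    facts_4000)
    facts_6000)
    facts_8000)
    facts_10000)
    facts_12000)
    facts_14000)
    facts_16000)
    facts_18000)
    facts_20000)
    facts_22000)
    facts_24000)
    facts_26000)
    facts_28000)
    facts_30000)
    facts_32000)
    facts_34000)
    facts_36000)
    facts_38000)
    facts_40000)
    facts_42000)
    facts_44000)
    facts_46000)
    facts_48000)
    facts_50000)
    facts_52000)
    facts_54000)
    facts_56000)
    facts_58000)
    facts_60000)
    facts_62000)
    facts_64000)
    facts_66000)
    facts_68000)
    facts_70000)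
    facts_72000)
    facts_74000)
    facts_76000)
    facts_78000)
    facts_80000)
    facts_82000)
    facts_84000)
    facts_86000)
    facts_88000)
    facts_90000)
    facts_92000)
    facts_94000)
    facts_96000)
    facts_98000)
    facts_100000)
    facts_102000)
    facts_104000)
    facts_106000)
    facts_108000)
    facts_110000)
    facts_112000)
    facts_114000)
    facts_116000)
    facts_118000)
    facts_120000)
    facts_122000)
    facts_124000)
    facts_126000)
    facts_128000)
    facts_130000)
    facts_132000)
    facts_134000)
    facts_136000)
    facts_138000)
    facts_140000)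
    facts_142000)
    facts_144000)
    facts_146000)
    facts_148000)
    facts_150000)
    facts_152000)
    facts_154000)
    facts_156000)
    facts_158000)
    facts_160000)
    facts_162000)
    facts_164000)
    facts_166000)
    facts_168000)
    facts_170000)
    facts_172000)
    facts_174000)
    facts_176000)
    facts_178000)
    facts_180000)
    facts_182000)
    facts_184000)
    facts_186000)
    facts_188000)
    facts_190000)
    facts_192000)
    facts_194000)
    facts_196000)
    facts_198000)
    facts_200000)
    facts_202000)
    facts_204000)
    facts_206000)
    facts_208000)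
    facts_210000)
    facts_212000)
    facts_214000)
    facts_216000)
    facts_218000)
    facts_220000)
    facts_222000)
    facts_224000)
    facts_226000)
    facts_228000)
    facts_230000)
    facts_232000)
    facts_234000)
    facts_236000)
    facts_238000)
    facts_240000)
    facts_242000)
    facts_244000)
    facts_246000)
    facts_248000)
    facts_250000)
    facts_252000)
    facts_254000)
    facts_256000)
    facts_258000)
    facts_260000)
    facts_262000)
    facts_264000)
    facts_266000)
    facts_268000)
    facts_270000)
    facts_272000)
    facts_274000)
    facts_276000)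
    facts_278000)
    facts_280000)
    facts_282000)
  rows_ok :=
    (allFrom_extend (allFrom_extend (allFrom_extend (allFrom_extend (allFrom_extend (allFrom_extend (allFrom_extend (allFrom_extend (allFrom_extend (allFrom_extend (allFrom_extend (allFrom_extend (allFrom_extend (allFrom_extend (allFrom_extend (allFrom_extend (allFrom_extend (allFrom_extend (allFrom_extend (allFrom_extend (allFrom_extend (allFrom_extend (allFrom_extend (allFrom_extend (allFrom_extend (allFrom_extend (allFrom_extend (allFrom_extend (allFrom_extend (allFrom_extend (allFrom_extend (allFrom_extend allFrom_nil
    rows_0)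
    rows_1000)
    rows_2000)
    rows_3000)
    rows_4000)
    rows_5000)
    rows_6000)
    rows_7000)
    rows_8000)
    rows_9000)
    rows_10000)
    rows_11000)
    rows_12000)
    rows_13000)
    rows_14000)
    rows_15000)
    rows_16000)
    rows_17000)
    rows_18000)
    rows_19000)
    rows_20000)
    rows_21000)
    rows_22000)
    rows_23000)
    rows_24000)
    rows_25000)
    rows_26000)
    rows_27000)
    rows_28000)
    rows_29000)
    rows_30000)
    rows_31000)
  pos := by decide
  rep_zero := by decide +kernel

end Cfsg.Agent.H47.J4
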