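import Cfsg.Agent.H47.J4.Pres
import Cfsg.Agent.H47.J4.DataFacts
import Cfsg.Agent.H47.J4.DataRefs
import Cfsg.Agent.H47.J4.DataTable

/-! The enumeration over a subgroup centralising the involution. -/

set_option autoImplicit false

namespace Cfsg.Agent.H47.J4

open Cfsg.Agent.H16

/-- the words: relators, then subgroup generators -/
def certWords : List (List Nat) :=
  [[],
   [0,0],
   [2,1],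
   [1,2],
   [0,0],
   [2,2,2],
   [0,2,0,2,0,1,0,2,0,1,0,1,0,2,0,1,0,1,0,2,0,1,0,1,0,2,0,2,0,1,0,2,0,2,0,1],
   [0,1,0,2,0,1,0,1,0,2,0,2,0,1,0,2,0,2,0,1,0,2,0,2,0,1,0,2,0,1,0,1,0,2,0,1],
   [0,1,0,1,0,2,0,2,0,1,0,1,0,2,0,2,0,1,0,1,0,2,0,2,0,1,0,1,0,2,0,2,0,1,0,1,0,2,0,2],
   [1,0,1,0,2,0,2,0,1,0,1,0,2,0,2,0,1,0,1,0,2,0,2,0,1,0,1,0,2,0,2,0,1,0,1,0,2,0,2,0],
   [0,0,2,0,2,0,1,0,1,0,2,0,2,0,1,0,1,0,2,0,2,0,1,0,1,0,2,0,2,0,1,0,1,0,2,0,2,0,1,0,1,0],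
   [0,0,1,0,1,0,2,0,2,0,1,0,1,0,2,0,2,0,1,0,1,0,2,0,2,0,1,0,1,0,2,0,2,0,1,0,1,0,2,0,2,0],
   [0,1,0,1,0,1,0,1,0,1,0,1,0,1,0,1,0,1,0,1,0,1,0,1,0,1,0,1,0,1,0,1,0,1,0,1,0,1,0,1,0,1,0,1,0,1],
   [0,2,0,1,0,2,0,1,0,2,0,1,0,2,0,1,0,2,0,1,0,2,0,1,0,2,0,1,0,2,0,1,0,2,0,1,0,2,0,1,0,2,0,1,0,2,0,1],
   [0,2,0,1,0,2,0,1,0,2,0,1,0,2,0,1,0,2,0,1,0,2,0,1,0,0,0,2,0,1,0,2,0,1,0,2,0,1,0,2,0,1,0,2,0,1,0,2,0,1],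
   [0,1,0,1,2,0,2,0,1,0,1,0,2,0,2,0,1,0,1,0,2,0,2,0,1,0,1,0,0,0,2,0,2,0,1,0,1,0,2,0,2,0,1,0,1,0,2,0,2,0,1,0,1,2,0,2],
   [0,0,2,0,2,0,1,0,1,0,2,0,2,0,1,0,1,0,2,0,2,0,1,0,1,2,0,2,0,1,0,1,2,0,2,0,1,0,1,0,2,0,2,0,1,0,1,0,2,0,2,0,1,0,1,0],
   [2,0,2,0,1,0,2,0,1,0,2,0,1,0,2,0,2,0,1,0,2,0,1,0,2,0,1,0,2,0,2,0,1,0,2,0,1,0,2,0,1,0,2,0,2,0,1,0,2,0,1,0,2,0,1,0],
   [0],
   [0,2,0,2,0,1,0,2,0,2,0,1,0,2,0,2,0,1],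
   [0,1,0,2,0,1,0,2,0,1,0,2,0,1,0,2,0,1,0,2,0,1,0,2],
   [0,2,0,1,0,2,0,1,0,2,0,1,0,2,0,1,0,2,0,1,0,2,0,1],
   [2,0,2,0,1,0,1,0,2,0,2,0,1,0,1,0,2,0,2],
   [2,0,2,0,1,0,1,0,2,0,2,0,1,0,1,0,2,0,2,0],
   [2,0,2,1,0,1,0,2,0,2,0,1,0,1,0,2,0,2,0,1,0,1,0,2,0,2,0],
   [0,1,0,1,0,2,0,2,0,1,0,1,0,2,0,2,0,1,0,1,0,2,0,2,1,0,1],
   [1,0,1,0,2,0,2,0,1,0,1,0,2,0,2,0,1,0,1],
   [1,0,1,0,2,0,2,0,1,0,1,0,2,0,2,0,1,0,1,0],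
   [1,0,1,2,0,2,0,1,0,1,0,2,0,2,0,1,0,1,0,2,0,2,0,1,0,1,0],
   [0,2,0,2,0,1,0,1,0,2,0,2,0,1,0,1,0,2,0,2,0,1,0,1,2,0,2]]

/-- proofs of the relators -/
def relCerts : List (Option (List Nat × Nat × Bool)) :=
  [none,
   none,
   none,
   none,
   none,
   none,
   some ([0,2,0,2,0,1,0,2,0,2,0,1], 6, false),
   some ([0,2,0,2,0,1,0,2,0,2,0,1,0,2,0,2,0,1,0,2,0,1,0,1,0,2,0,1], 6, false),
   some ([], 4, false),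
   some ([0], 4, false),
   some ([0,1,0,1,0], 4, false),
   some ([0], 4, false),
   some ([1], 2, true),
   some ([0,1], 3, false),
   some ([0,1], 3, false),
   some ([0], 4, false),
   some ([0,1,0,1,0], 4, false),
   some ([0], 5, false)]

/-- proofs that the subgroup generators commute with the involution -/
def subCerts : List (Option (List Nat × Nat × Bool)) :=
  [none,
   some ([0,2,0,2,0,1,0,2,0,2,0,1,0,2,0,2,0,1,0], 6, false),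
   some ([0], 3, false),
   some ([0,1,0], 3, false),
   some ([0], 4, false),
   some ([], 4, false),
   some ([], 4, false),
   some ([0,1,0,1], 4, false),
   some ([0,1,0,1,0], 4, false),
   some ([0,1,0,1], 4, false),
   some ([0,1,0,1], 4, false),
   some ([], 4, false)]

/-- the certificate -/
def cert : Cert := ⟨31878, 282224, certWords, 18, factArr, refArr, defArr, repArr, tableArr⟩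

end Cfsg.Agent.H47.J4
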