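import Cfsg.Agent.S0374
import Cfsg.Agent.H47.J4.Pres

/-! The two permutations of the twenty-four points and the map of the presented group onto the Mathieu group. -/

set_option autoImplicit false

namespace Cfsg.Agent.H47.J4

open Cfsg.Agent.H16

/-- images under the involution -/
def xL : List Nat := [5,13,21,17,22,0,11,10,14,12,7,6,9,1,8,23,18,3,16,20,19,2,4,15]

/-- images under the element of order three -/
def yL : List Nat := [5,1,15,6,13,10,22,2,18,8,0,14,12,20,21,7,16,17,9,19,4,11,3,23]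

/-- images under its inverse -/
def yiL : List Nat := [10,1,7,22,20,0,3,15,9,18,5,21,12,4,11,2,16,17,8,19,13,14,6,23]

/-- a point from a number -/
def pt (n : Nat) : Fin 24 := ⟨n % 24, Nat.mod_lt _ (by norm_num)⟩

/-- the involution -/
def mX : Equiv.Perm (Fin 24) where
  toFun i := pt (xL.getD i 0)
  invFun i := pt (xL.getD i 0)
  left_inv := by unfold Function.LeftInverse; decide +kernel
  right_inv := by unfold Function.RightInverse Function.LeftInverse; decide +kernel

/-- the element of order three -/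
def mY : Equiv.Perm (Fin 24) where
  toFun i := pt (yL.getD i 0)
  invFun i := pt (yiL.getD i 0)
  left_inv := by unfold Function.LeftInverse; decide +kernel
  right_inv := by unfold Function.RightInverse Function.LeftInverse; decide +kernel

/-- the letters -/
def mval : Nat → Equiv.Perm (Fin 24)
  | 0 => mX
  | 1 => mY
  | 2 => mY.symm
  | _ => 1

theorem good_mval : Good mval := by
  refine ⟨rfl, fun g hg => ?_, fun w hw => Equiv.ext fun i => ?_⟩
  · match g, hg with
    | 0, h | 1, h | 2, h => exact absurd h (by omega)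
    | _ + 3, _ => rfl
  · have h : ∀ w ∈ baseW, ∀ i : Fin 24, evp mval w i = i := by decide +kernel
    exact h w hw i

/-- the points in the order used here -/
def idx : GolayPt → Fin 24
  | none => pt 23
  | some a => pt a.val

/-- the inverse numbering -/
def unidx (i : Fin 24) : GolayPt := if (i : Nat) < 23 then some ((i : Nat) : ZMod 23) else none

/-- the numbering -/
def ptE : GolayPt ≃ Fin 24 where
  toFun := idx
  invFun := unidx
  left_inv := by unfold Function.LeftInverse; decide +kernel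
  right_inv := by unfold Function.RightInverse Function.LeftInverse; decide +kernel

/-- the generators of the Mathieu group -/
noncomputable def gen24 : List (Equiv.Perm GolayPt) :=
  [Equiv.optionCongr (Equiv.addRight (1 : ZMod 23)), Cfsg.projInv, Cfsg.cubeTwist]

/-- the generators as functions -/
def gen24Fun (k : Nat) (p : GolayPt) : GolayPt :=
  if k = 0 then p.map (fun a => a + 1) else if k = 1 then projInvFun p else cubeTwistFun p

/-- apply the letters of a word, the last one first -/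
def appW (f : Nat → GolayPt → GolayPt) : List Nat → GolayPt → GolayPt
  | [], p => p
  | k :: w, p => f k (appW f w p)

/-- transported letters -/
def gfun (g : Nat) (p : GolayPt) : GolayPt := unidx (mval g (idx p))

theorem gen24_apply (k : Nat) (hk : k < 3) (p : GolayPt) :
    gen24.getD k 1 p = gen24Fun k p := by
  match k, hk with
  | 0, _ => cases p <;> rfl
  | 1, _ => rfl
  | 2, _ => rfl

theorem appW_gen24 : ∀ (w : List Nat), (∀ k ∈ w, k < 3) → ∀ p,
    (w.map fun k => gen24.getD k 1).prod p = appW gen24Fun w p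
  | [], _, p => rfl
  | k :: w, h, p => by
    rw [List.map_cons, List.prod_cons, Equiv.Perm.mul_apply, appW,
      appW_gen24 w (fun x hx => h x (List.mem_cons_of_mem _ hx)),
      gen24_apply k (h k (List.mem_cons_self ..))]

/-- transported letters as permutations -/
def gperm (g : Nat) : Equiv.Perm GolayPt := ptE.symm.permCongr (mval g)

theorem appW_gperm : ∀ (w : List Nat) (p : GolayPt), (w.map gperm).prod p = appW gfun w p
  | [], _ => rfl
  | k :: w, p => by
    rw [List.map_cons, List.prod_cons, Equiv.Perm.mul_apply, appW, appW_gperm w]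
    rfl

/-- words of the two permutations in the generators -/
def inGens : List (List Nat) := [[2,2,2,2,2,2,2,2,0,2,2,2,2,0,2,2,2,2,0,2,2,2,2,0,0,0,0,0,0,0,0,0,0,0,0,0,0,0,0,0,0,0,0,0,0,2,2,2,2,2,2,2,2,1,0,0,0,0,0,0,0,0,0,0,0,0,0,0,0,0,0,0,0,0,0,0,0,0,0,0,0,0,0,0,0,0,0,0,0,0,0,0,0,0,0,0,0,0,0,0,0,0,0,0,0,0,0,0,0,0,0,0,0,0,0,0,0,0,0,0,1], [0,0,0,0,0,0,0,0,0,0,0,0,0,0,0,0,0,0,0,0,0,0,2,0,0,0,0,0,0,0,0,0,0,0,0,0,0,0,0,0,0,0,0,0,0,2,2,2,2,0,0,0,0,0,0,0,0,0,0,0,0,0,0,0,0,0,0,0,0,0,0,2,2,0,0,0,0,0,0,0,0,0,0,0,0,0,0,0,0,0,0,0,0,0,0,2,2,2,2,0,2,2,2,2,2,2,2,2,0,0,0,0,0,0,0,0,0,0,0,0,0,0,0,0,0,0,0,0,0,0,0,0,0,0,0,0,0,0,0,0,0,0,0,0,0,0,0,0,0,0,0,0,0,0,0,0,0,0,0,0,0,0,0,0,0,0,0,0,0,0,0,0,0,0]]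

/-- words of the generators in the two permutations -/
def outGens : List (List Nat) := [[0,1,0,1,0,1,1,0,1,0,1,1,0,1,1,0,1,1,0,1,0,1,0,1,0,1,0,1,1,0,1,0,1,1,0,1,1,0,1,0,1,0,1,1,0,1,1,0,1,0,1,1,0,1,0,1,0,1,0,1,1,0], [0,1,0,1,0,1,1,0,1,1,0,1,1,0,1,0,1,1,0,1,1,0,1,1,0,1,1,0,1,0,1,1,0,1,1,0,1,1,0,1,0,1,1,0,1,0,1,1,0,1,0,1,0,1,0,1,0,1,0,1,0,1,1,0,1,1,0,1,0], [1,0,1,1,0,1,1,0,1,1,0,1,1,0,1,1,0,1,0,1,1,0,1,1,0,1,1,0,1,1,0,1,0,1,0,1,1,0,1,0,1,1,0,1,1,0,1,1,0,1,0,1,1,0,1,1,0,1,1,0,1,0,1,1,0,1,1,0,1,1,0,1,1]]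

theorem in_ok : ∀ g < 2, ∀ p : GolayPt, gfun g p = appW gen24Fun (inGens.getD g []) p := by
  decide +kernel

theorem in_lt : ∀ w ∈ inGens, ∀ k ∈ w, k < 3 := by decide +kernel

theorem out_ok : ∀ k < 3, ∀ p : GolayPt, gen24Fun k p = appW gfun (outGens.getD k []) p := by
  decide +kernel

theorem out_lt : ∀ w ∈ outGens, ∀ k ∈ w, k < 2 := by decide +kernel

theorem gen24_mem (k : Nat) : gen24.getD k 1 ∈ M24 := by
  rw [← S0374.result]
  match k with
  | 0 => exact Subgroup.subset_closure (Or.inl rfl)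
  | 1 => exact Subgroup.subset_closure (Or.inr (Or.inl rfl))
  | 2 => exact Subgroup.subset_closure (Or.inr (Or.inr rfl))
  | k + 3 => exact one_mem _

theorem gperm_mem_two : ∀ g < 2, gperm g ∈ M24 := by
  intro g hg
  have e : gperm g = ((inGens.getD g []).map fun k => gen24.getD k 1).prod := by
    refine Equiv.ext fun p => ?_
    rw [appW_gen24 _ (in_lt _ ?_), ← in_ok g hg p]
    · rfl
    · rw [List.getD_eq_getElem _ _ (show g < inGens.length by exact hg)]; exact List.getElem_mem _
  rw [e]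
  exact list_prod_mem fun x hx => by obtain ⟨k, -, rfl⟩ := List.mem_map.1 hx; exact gen24_mem k

theorem gperm_mem (g : Nat) : gperm g ∈ M24 := by
  match g with
  | 0 => exact gperm_mem_two 0 (by norm_num)
  | 1 => exact gperm_mem_two 1 (by norm_num)
  | 2 =>
    have e : gperm 2 = (gperm 1)⁻¹ := Equiv.ext fun p => rfl
    rw [e]; exact inv_mem (gperm_mem_two 1 (by norm_num))
  | g + 3 =>
    have e : gperm (g + 3) = 1 := Equiv.ext fun p => by
      show ptE.symm (ptE p) = p
      exact ptE.symm_apply_apply p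
    rw [e]; exact one_mem _

/-- the letters in the Mathieu group -/
def gval (g : Nat) : M24 := ⟨gperm g, gperm_mem g⟩

theorem gperm_evp (w : List Nat) : ((evp gval w : M24) : Equiv.Perm GolayPt) =
    ptE.symm.permCongrHom (evp mval w) := by
  refine Eq.trans ?_ (evp_comp ptE.symm.permCongrHom.toMonoidHom mval w)
  exact (evp_comp M24.subtype gval w).symm

theorem good_gval : Good gval := by
  refine ⟨?_, fun g hg => ?_, fun w hw => ?_⟩
  · exact Subtype.ext (Equiv.ext fun p => rfl)
  · exact Subtype.ext (Equiv.ext fun p => by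
      show ptE.symm (mval g (ptE p)) = p
      rw [good_mval.outside g hg]
      exact ptE.symm_apply_apply p)
  · apply Subtype.ext
    rw [gperm_evp, good_mval.base w hw, map_one]
    rfl

/-- the map of the presented group onto the Mathieu group -/
noncomputable def pi24 : PGrp →* M24 := phom good_gval

theorem pi24_surjective : Function.Surjective pi24 := by
  rw [← MonoidHom.range_eq_top, eq_top_iff]
  rintro ⟨x, hx⟩ -
  have hle : M24 ≤ pi24.range.map M24.subtype := by
    refine S0374.result.ge.trans ((Subgroup.closure_le _).2 ?_)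
    intro z hz
    have key : ∀ k < 3, gen24.getD k 1 ∈ pi24.range.map M24.subtype := by
      intro k hk
      have e : gen24.getD k 1 = ((outGens.getD k []).map gperm).prod :=
        Equiv.ext fun p => by rw [gen24_apply k hk p, appW_gperm, out_ok k hk p]
      rw [e]
      refine list_prod_mem fun y hy => ?_
      obtain ⟨g, -, rfl⟩ := List.mem_map.1 hy
      exact Subgroup.mem_map.2 ⟨gval g, ⟨pval g, phom_pval _ g⟩, rfl⟩
    rcases hz with rfl | rfl | rfl
    exacts [key 0 (by norm_num), key 1 (by norm_num), key 2 (by norm_num)]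
  obtain ⟨a, ha, hax⟩ := Subgroup.mem_map.1 (hle hx)
  have e : a = ⟨x, hx⟩ := Subtype.ext hax
  exact e ▸ ha

end Cfsg.Agent.H47.J4
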